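import Cfsg.Agent.H710.FC.Star
import Cfsg.Agent.H786.FC.Parts

/-!
# S5764, extraspecial normalizers in odd prime degree (helper710)

`stmtC6_prime : StmtC6On (fun n => n.Prime ∧ n ≠ 2)`, `stmtC6_three : StmtC6On (fun n => n = 3)` (task 5368),
`stmtC6_five`, `stmtC6_seven`.  Uniform proof, no counting.
-/

set_option autoImplicit false

universe u v

namespace Cfsg.Agent.H710.FC

open Module Cfsg.Agent.H198.FC Cfsg.Agent.H886.FC Cfsg.Agent.H786.FC

/-! ### the scalar `δ` -/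

theorem exists_gen (K : Type u) [Field K] [Finite K] {r : ℕ} {ω : K} (hr : r.Prime) (hω : IsPrimitiveRoot ω r) :
    ∃ δ : K, Gen r ω δ := by
  obtain ⟨γ, hγ⟩ := IsCyclic.exists_generator (α := Kˣ)
  refine ⟨(γ : K), γ.ne_zero, fun K₀ h1 h2 => ?_⟩
  have hKf : Finite K₀ := inferInstance
  have hog : orderOf γ = Nat.card K - 1 := by
    rw [orderOf_eq_card_of_forall_mem_zpowers hγ, Nat.card_units]
  have hω0 : ω ≠ 0 := hω.ne_zero hr.ne_zero
  -- `ω` as a unit of `K`
  have hωr : orderOf (Units.mk0 ω hω0) = r := by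
    rw [← orderOf_units, Units.val_mk0]
    exact hω.eq_orderOf.symm
  have hrK : r ∣ orderOf γ := by
    rw [orderOf_eq_card_of_forall_mem_zpowers hγ, ← hωr]
    exact orderOf_dvd_natCard _
  -- units of `K₀`
  have key : ∀ u : Kˣ, (u : K) ∈ K₀ → orderOf u ∣ Nat.card K₀ - 1 := by
    intro u hu
    have hu0 : (⟨(u : K), hu⟩ : K₀) ≠ 0 := by
      intro h0
      exact u.ne_zero (congrArg Subtype.val h0)
    have h3 : orderOf (Units.mk0 (⟨(u : K), hu⟩ : K₀) hu0) = orderOf u := by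
      rw [← orderOf_units, ← orderOf_units, Units.val_mk0]
      exact (orderOf_injective (K₀.subtype : K₀ →* K) K₀.subtype.injective ⟨(u : K), hu⟩).symm
    rw [← h3, ← Nat.card_units]
    exact orderOf_dvd_natCard _
  have hq0 : 2 ≤ Nat.card K₀ := Finite.one_lt_card
  have hq : 2 ≤ Nat.card K := Finite.one_lt_card
  have h3 : r ≤ Nat.card K₀ - 1 := by
    have h4 := key (Units.mk0 ω hω0) h1
    rw [hωr] at h4
    exact Nat.le_of_dvd (by omega) h4
  have h4 : (Nat.card K - 1) / r ≤ Nat.card K₀ - 1 := by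
    have h5 := key (γ ^ r) (by rw [Units.val_pow_eq_pow_val]; exact h2)
    rw [orderOf_pow_of_dvd hr.ne_zero hrK, hog] at h5
    exact Nat.le_of_dvd (by omega) h5
  have h5 : Nat.card K - 1 ≤ (Nat.card K₀ - 1) * (Nat.card K₀ - 1) := by
    rw [hog] at hrK
    calc Nat.card K - 1 = r * ((Nat.card K - 1) / r) := (Nat.mul_div_cancel' hrK).symm
      _ ≤ (Nat.card K₀ - 1) * (Nat.card K₀ - 1) := Nat.mul_le_mul h3 h4
  have h6 : Nat.card K < Nat.card K₀ ^ 2 := by
    obtain ⟨m, hm⟩ : ∃ m, Nat.card K₀ = m + 2 := ⟨Nat.card K₀ - 2, by omega⟩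
    rw [hm] at h5 ⊢
    have h7 : m + 2 - 1 = m + 1 := rfl
    rw [h7] at h5
    have h8 : (m + 1) * (m + 1) = m ^ 2 + 2 * m + 1 := by ring
    have h9 : (m + 2) ^ 2 = m ^ 2 + 4 * m + 4 := by ring
    omega
  have h7 : Nat.card K = Nat.card K₀ ^ finrank K₀ K := Module.natCard_eq_pow_finrank
  have h8 : finrank K₀ K = 1 := by
    have h9 : finrank K₀ K < 2 := by
      rw [h7] at h6
      exact (Nat.pow_lt_pow_iff_right (by omega)).1 h6
    have h10 : 0 < finrank K₀ K := by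
      rcases Nat.eq_zero_or_pos (finrank K₀ K) with h11 | h11
      · rw [h11, pow_zero] at h7
        omega
      · exact h11
    omega
  rw [h8, pow_one] at h7
  have h9 : K₀.toAddSubgroup = ⊤ := AddSubgroup.eq_top_of_card_eq _ h7.symm
  rw [eq_top_iff]
  intro c _
  have : c ∈ K₀.toAddSubgroup := by rw [h9]; exact AddSubgroup.mem_top c
  exact this

variable {K : Type u} [Field K] {V : Type v} [AddCommGroup V] [Module K V]

/-! ### the Heisenberg pair of `A` -/

/-- lifts of commuting elements commute up to a scalar -/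
theorem exists_comm {x y : (R K V)ˣ} (h : cj K V x * cj K V y = cj K V y * cj K V x) :
    ∃ c : K, (x : R K V) * y = c • ((y : R K V) * x) := by
  rw [← map_mul, ← map_mul] at h
  obtain ⟨c, hc⟩ := cj_eq_cj h
  exact ⟨c, by rw [← Units.val_mul, ← Units.val_mul]; exact hc⟩

theorem pow_comm {x y : (R K V)ˣ} {c : K} (h : (x : R K V) * y = c • ((y : R K V) * x)) (k : ℕ) :
    (x : R K V) * (y : R K V) ^ k = c ^ k • ((y : R K V) ^ k * x) := by
  induction k with
  | zero => simp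
  | succ k ih =>
    rw [pow_succ, ← mul_assoc, ih, smul_mul_assoc, mul_assoc, h, mul_smul_comm, smul_smul, mul_assoc, ← pow_succ]

theorem comm_pow {x y : (R K V)ˣ} {c : K} (h : (x : R K V) * y = c • ((y : R K V) * x)) (k : ℕ) :
    (x : R K V) ^ k * (y : R K V) = c ^ k • ((y : R K V) * (x : R K V) ^ k) := by
  induction k with
  | zero => simp
  | succ k ih =>
    rw [pow_succ', mul_assoc, ih, mul_smul_comm, ← mul_assoc, h, smul_mul_assoc, smul_smul, mul_assoc,
      ← pow_succ, ← pow_succ']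

/-- `(x y)^k = c^{k(k-1)/2} x^k y^k` if `y x = c x y` -/
theorem mul_pow_comm {x y : (R K V)ˣ} {c : K} (h : (y : R K V) * x = c • ((x : R K V) * y)) (k : ℕ) :
    ((x : R K V) * y) ^ k = c ^ (∑ i ∈ Finset.range k, i) • ((x : R K V) ^ k * (y : R K V) ^ k) := by
  induction k with
  | zero => simp
  | succ k ih =>
    have h1 := comm_pow h k
    calc ((x : R K V) * y) ^ (k + 1) = ((x : R K V) * y) ^ k * (x * y) := pow_succ _ _
      _ = c ^ (∑ i ∈ Finset.range k, i) • ((x : R K V) ^ k * ((y : R K V) ^ k * x) * y) := by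
          rw [ih, smul_mul_assoc]
          simp only [mul_assoc]
      _ = c ^ (∑ i ∈ Finset.range (k + 1), i) • ((x : R K V) ^ (k + 1) * (y : R K V) ^ (k + 1)) := by
          rw [h1, mul_smul_comm, smul_mul_assoc, smul_smul, ← pow_add, Finset.sum_range_succ, pow_succ (x : R K V),
            pow_succ' (y : R K V)]
          simp only [mul_assoc]
          congr 3
          exact (pow_succ _ _).symm.trans (pow_succ' _ _)

section

variable {S A : Subgroup (Equiv.Perm (R K V))} {r a : ℕ}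

theorem scalar_pow (hpow : ∀ f ∈ A, f ^ r = 1) {x : (R K V)ˣ} (hx : cj K V x ∈ A) :
    ∃ s : K, (x : R K V) ^ r = s • (1 : R K V) := by
  have h1 : cj K V (x ^ r) = 1 := by rw [map_pow, hpow _ hx]
  obtain ⟨s, hs⟩ := cj_eq_one h1
  exact ⟨s, by rw [← Units.val_pow_eq_pow_val]; exact hs⟩

variable [Nontrivial V]

theorem comm_root (hpow : ∀ f ∈ A, f ^ r = 1) {x y : (R K V)ˣ} (hx : cj K V x ∈ A)
    {c : K} (h : (x : R K V) * y = c • ((y : R K V) * x)) : c ^ r = 1 := by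
  obtain ⟨s, hs⟩ := scalar_pow hpow hx
  have h1 := comm_pow h r
  rw [hs, smul_mul_assoc, one_mul, mul_smul_comm, mul_one, smul_smul] at h1
  have h2 : s ≠ 0 := by
    rintro rfl
    rw [zero_smul, ← Units.val_pow_eq_pow_val] at hs
    exact (x ^ r).ne_zero hs
  have h3 : (s - c ^ r * s) • (y : R K V) = 0 := by rw [sub_smul, ← h1, sub_self]
  have h4 := sub_eq_zero.1 ((smul_eq_zero.1 h3).resolve_right y.ne_zero)
  exact (mul_right_cancel₀ h2 (by rw [one_mul]; exact h4 : (1 : K) * s = c ^ r * s)).symm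

theorem mul_pow_r (hr : r.Prime) (hodd : r ≠ 2) (hpow : ∀ f ∈ A, f ^ r = 1) (hcomm : ∀ f ∈ A, ∀ g ∈ A, f * g = g * f)
    {x y : (R K V)ˣ} (hx : cj K V x ∈ A) (hy : cj K V y ∈ A) : (x * y) ^ r = x ^ r * y ^ r := by
  obtain ⟨c, hc⟩ := exists_comm (hcomm _ hy _ hx)
  have hcr := comm_root hpow hy hc
  have h1 := mul_pow_comm hc r
  have h3 := Finset.sum_range_id_mul_two r
  obtain ⟨m, hm⟩ := hr.even_sub_one hodd
  have h4 : ∑ i ∈ Finset.range r, i = r * m := by
    rw [hm] at h3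
    have : (∑ i ∈ Finset.range r, i) * 2 = (r * m) * 2 := by rw [h3]; ring
    omega
  rw [h4, pow_mul, hcr, one_pow, one_smul] at h1
  apply Units.ext
  rw [Units.val_pow_eq_pow_val, Units.val_mul, Units.val_mul, Units.val_pow_eq_pow_val, Units.val_pow_eq_pow_val]
  exact h1

/-- the elements with a lift of `r`-th power `1` -/
def BB (A : Subgroup (Equiv.Perm (R K V))) {r : ℕ} (hr : r.Prime) (hodd : r ≠ 2) (hpow : ∀ f ∈ A, f ^ r = 1)
    (hcomm : ∀ f ∈ A, ∀ g ∈ A, f * g = g * f) : Subgroup (Equiv.Perm (R K V)) where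
  carrier := {f | f ∈ A ∧ ∃ x : (R K V)ˣ, cj K V x = f ∧ x ^ r = 1}
  one_mem' := ⟨A.one_mem, 1, map_one _, one_pow _⟩
  mul_mem' := by
    rintro f g ⟨hf, x, rfl, hx⟩ ⟨hg, y, rfl, hy⟩
    exact ⟨A.mul_mem hf hg, x * y, map_mul _ _ _, by rw [mul_pow_r hr hodd hpow hcomm hf hg, hx, hy, one_mul]⟩
  inv_mem' := by
    rintro f ⟨hf, x, rfl, hx⟩
    exact ⟨A.inv_mem hf, x⁻¹, map_inv _ _, by rw [inv_pow, hx, inv_one]⟩

/-- the Heisenberg pair -/
theorem exists_heis [Finite K] [Module.Finite K V] (hS : S ≤ RA K V) (h : C6Data S A r a)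
    (hn : (finrank K V).Prime) (hn2 : finrank K V ≠ 2) :
    ∃ (ω : K) (P Z : (R K V)ˣ), cj K V P ∈ A ∧ cj K V Z ∈ A ∧ Heis r ω P Z := by
  obtain ⟨hr, ha, hfr, hAS, hAI, -, hpow, hcomm, hspan, hnorm, hmin⟩ := h
  have ha1 : a = 1 := (hfr ▸ hn : (r ^ a).Prime).eq_one_of_pow
  rw [ha1, pow_one] at hfr
  have hodd : r ≠ 2 := hfr ▸ hn2
  -- a non-commuting pair
  have hnc : ∃ x y : (R K V)ˣ, cj K V x ∈ A ∧ cj K V y ∈ A ∧ (x : R K V) * y ≠ (y : R K V) * x := by
    by_contra hcon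
    push Not at hcon
    have h1 : ∀ x : (R K V)ˣ, cj K V x ∈ A → ∀ Y : R K V, (x : R K V) * Y = Y * x := by
      intro x hx Y
      have hY : Y ∈ Submodule.span K {X : R K V | ∃ x : (R K V)ˣ, (x : R K V) = X ∧ cj K V x ∈ A} := by
        rw [hspan]; exact Submodule.mem_top
      induction hY using Submodule.span_induction with
      | mem X hX =>
        obtain ⟨y, rfl, hy⟩ := hX
        exact hcon x y hx hy
      | zero => rw [mul_zero, zero_mul]
      | add X Y _ _ hX hY => rw [mul_add, add_mul, hX, hY]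
      | smul c X _ hX => rw [mul_smul_comm, smul_mul_assoc, hX]
    have h2 : ∀ X : R K V, ∃ c : K, c • (1 : R K V) = X := by
      intro X
      have hX : X ∈ Submodule.span K {X : R K V | ∃ x : (R K V)ˣ, (x : R K V) = X ∧ cj K V x ∈ A} := by
        rw [hspan]; exact Submodule.mem_top
      induction hX using Submodule.span_induction with
      | mem X hX =>
        obtain ⟨x, rfl, hx⟩ := hX
        obtain ⟨c, hc⟩ := exists_scalar_of_central _ (h1 x hx)
        exact ⟨c, hc.symm⟩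
      | zero => exact ⟨0, zero_smul _ _⟩
      | add X Y _ _ hX hY =>
        obtain ⟨c, rfl⟩ := hX
        obtain ⟨d, rfl⟩ := hY
        exact ⟨c + d, add_smul _ _ _⟩
      | smul c X _ hX =>
        obtain ⟨d, rfl⟩ := hX
        exact ⟨c * d, mul_smul _ _ _⟩
    have h3 : finrank K (R K V) ≤ 1 := finrank_le_one (1 : R K V) h2
    have h4 : finrank K (R K V) = finrank K V * finrank K V := Module.finrank_linearMap K K V V
    have h5 := hn.two_le
    nlinarith
  obtain ⟨x, y, hx, hy, hxy⟩ := hnc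
  obtain ⟨c, hc⟩ := exists_comm (hcomm _ hx _ hy)
  have hcr := comm_root hpow hx hc
  have hc1 : c ≠ 1 := by
    rintro rfl
    rw [one_smul] at hc
    exact hxy hc
  have hcp : IsPrimitiveRoot c r := by
    have : Fact r.Prime := ⟨hr⟩
    rw [← orderOf_eq_prime hcr hc1]
    exact IsPrimitiveRoot.orderOf c
  -- `B = A`
  have hB : BB A hr hodd hpow hcomm = A := by
    rcases hmin (BB A hr hodd hpow hcomm) (fun f hf => hf.1) (by
      rintro g hg _ ⟨hf, z, rfl, hz⟩
      refine ⟨hnorm g hg _ hf, ?_⟩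
      have hgr := hS hg
      have h1 : (fU g hgr z) ^ r = 1 := by
        apply Units.ext
        rw [Units.val_pow_eq_pow_val, fU_val, ← ra_pow hgr, ← Units.val_pow_eq_pow_val, hz, Units.val_one,
          ra_one hgr]
      rcases hgr.2 with hm | hm
      · exact ⟨fU g hgr z, (conj_cj_rp hgr hm z).symm, h1⟩
      · exact ⟨(fU g hgr z)⁻¹, by rw [map_inv, conj_cj_anti hgr hm z], by rw [inv_pow, h1, inv_one]⟩) with h0 | h0
    · exfalso
      have hbot : ∀ z : (R K V)ˣ, cj K V z ∈ A → z ^ r = 1 → cj K V z = 1 := by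
        intro z hz1 hz2
        have h1 : cj K V z ∈ BB A hr hodd hpow hcomm := ⟨hz1, z, rfl, hz2⟩
        rw [h0] at h1
        exact Subgroup.mem_bot.1 h1
      obtain ⟨s, hs⟩ := scalar_pow hpow hx
      obtain ⟨t, ht⟩ := scalar_pow hpow hy
      have hs0 : s ≠ 0 := by
        rintro rfl
        rw [zero_smul, ← Units.val_pow_eq_pow_val] at hs
        exact (x ^ r).ne_zero hs
      have ht0 : t ≠ 0 := by
        rintro rfl
        rw [zero_smul, ← Units.val_pow_eq_pow_val] at ht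
        exact (y ^ r).ne_zero ht
      obtain ⟨γ, hγ⟩ := IsCyclic.exists_generator (α := Kˣ)
      obtain ⟨m, hm⟩ := (mem_powers_iff_mem_zpowers.2 (hγ (Units.mk0 s hs0)) : Units.mk0 s hs0 ∈ Submonoid.powers γ)
      obtain ⟨n, hn'⟩ := (mem_powers_iff_mem_zpowers.2 (hγ (Units.mk0 t ht0)) : Units.mk0 t ht0 ∈ Submonoid.powers γ)
      change γ ^ m = _ at hm
      change γ ^ n = _ at hn'
      have hm' : (γ : K) ^ m = s := by rw [← Units.val_pow_eq_pow_val, hm, Units.val_mk0]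
      have hn'' : (γ : K) ^ n = t := by rw [← Units.val_pow_eq_pow_val, hn', Units.val_mk0]
      -- the element `z = x^n y^{-m}`
      have hxn : cj K V (x ^ n) ∈ A := by rw [map_pow]; exact A.pow_mem hx n
      have hym : cj K V ((y ^ m)⁻¹) ∈ A := by rw [map_inv, map_pow]; exact A.inv_mem (A.pow_mem hy m)
      have hz1 : cj K V (x ^ n * (y ^ m)⁻¹) ∈ A := by rw [map_mul]; exact A.mul_mem hxn hym
      have hz2 : (x ^ n * (y ^ m)⁻¹) ^ r = 1 := by
        rw [mul_pow_r hr hodd hpow hcomm hxn hym, inv_pow, mul_inv_eq_one]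
        apply Units.ext
        rw [← pow_mul, ← pow_mul, mul_comm n, mul_comm m, pow_mul, pow_mul, Units.val_pow_eq_pow_val,
          Units.val_pow_eq_pow_val, Units.val_pow_eq_pow_val, Units.val_pow_eq_pow_val, hs, ht, smul_pow, smul_pow,
          one_pow, one_pow, ← hm', ← hn'', ← pow_mul, ← pow_mul, mul_comm]
      obtain ⟨κ, hκ⟩ := cj_eq_one (hbot _ hz1 hz2)
      have hκ' : (x : R K V) ^ n = κ • (y : R K V) ^ m := by
        have h1 : ((x ^ n : (R K V)ˣ) : R K V) = ((x ^ n * (y ^ m)⁻¹ : (R K V)ˣ) : R K V) * ((y ^ m : (R K V)ˣ) : R K V) := by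
          rw [← Units.val_mul, inv_mul_cancel_right]
        rw [hκ, smul_mul_assoc, one_mul, Units.val_pow_eq_pow_val, Units.val_pow_eq_pow_val] at h1
        exact h1
      have hκ0 : κ ≠ 0 := by
        rintro rfl
        rw [zero_smul, ← Units.val_pow_eq_pow_val] at hκ'
        exact (x ^ n).ne_zero hκ'
      -- `c^m = 1`
      have hcm : c ^ m = 1 := by
        have h1 := pow_comm hc m
        have h2 : (x : R K V) * (κ • (y : R K V) ^ m) = (κ • (y : R K V) ^ m) * x := by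
          rw [← hκ', ← pow_succ, ← pow_succ']
        rw [mul_smul_comm, smul_mul_assoc] at h2
        have h3 := smul_right_injective (R K V) hκ0 h2
        change (x : R K V) * (y : R K V) ^ m = (y : R K V) ^ m * x at h3
        rw [h3] at h1
        have h4 : (1 - c ^ m) • ((y ^ m * x : (R K V)ˣ) : R K V) = 0 := by
          rw [sub_smul, one_smul, Units.val_mul, Units.val_pow_eq_pow_val, ← h1, sub_self]
        exact (sub_eq_zero.1 ((smul_eq_zero.1 h4).resolve_right (Units.ne_zero _))).symm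
      obtain ⟨m', hm''⟩ := hcp.dvd_of_pow_eq_one m hcm
      -- rescale `x`
      have hγ0 : ((γ : K) ^ m')⁻¹ ≠ 0 := inv_ne_zero (pow_ne_zero _ γ.ne_zero)
      let w : (R K V)ˣ := Units.mk0 ((γ : K) ^ m')⁻¹ hγ0 • x
      have hw : (w : R K V) = ((γ : K) ^ m')⁻¹ • (x : R K V) := rfl
      have hwx : cj K V w = cj K V x := by
        apply Equiv.ext
        intro X
        have h1 : (w : R K V) * X * ((w⁻¹ : (R K V)ˣ) : R K V) = (x : R K V) * X * ((x⁻¹ : (R K V)ˣ) : R K V) := by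
          have h2 : (w : R K V) * X = (((x : R K V) * X * ((x⁻¹ : (R K V)ˣ) : R K V)) * w) := by
            rw [hw, smul_mul_assoc, mul_smul_comm, mul_assoc _ _ (x : R K V), Units.inv_mul, mul_one]
          rw [h2, mul_assoc, Units.mul_inv, mul_one]
        exact h1
      have hwr : w ^ r = 1 := by
        apply Units.ext
        rw [Units.val_pow_eq_pow_val, hw, smul_pow, hs, smul_smul, ← hm', hm'', inv_pow, ← pow_mul, mul_comm m' r,
          inv_mul_cancel₀ (pow_ne_zero _ γ.ne_zero), one_smul, Units.val_one]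
      have h1 := hbot w (by rw [hwx]; exact hx) hwr
      rw [hwx] at h1
      obtain ⟨d, hd⟩ := cj_eq_one h1
      apply hxy
      rw [hd, smul_mul_assoc, one_mul, mul_smul_comm, mul_one]
    · exact h0
  obtain ⟨Z, hZ, hZr⟩ : ∃ z : (R K V)ˣ, cj K V z = cj K V x ∧ z ^ r = 1 := by
    have h1 : cj K V x ∈ BB A hr hodd hpow hcomm := by rw [hB]; exact hx
    exact h1.2
  obtain ⟨P, hP, hPr⟩ : ∃ z : (R K V)ˣ, cj K V z = cj K V y ∧ z ^ r = 1 := by
    have h1 : cj K V y ∈ BB A hr hodd hpow hcomm := by rw [hB]; exact hy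
    exact h1.2
  refine ⟨c, P, Z, by rw [hP]; exact hy, by rw [hZ]; exact hx, hr, hodd, hcp, hfr, hPr, hZr, ?_⟩
  obtain ⟨d, hd⟩ := cj_eq_cj hZ
  obtain ⟨e, he⟩ := cj_eq_cj hP
  rw [hd, he, smul_mul_assoc, mul_smul_comm, hc, smul_mul_assoc, mul_smul_comm, smul_smul, smul_smul, smul_smul,
    smul_smul]
  congr 1
  ring

end

/-! ### the theorem -/

theorem five_of_heis [Finite K] [Module.Finite K V] {S A : Subgroup (Equiv.Perm (R K V))} (hS : S ≤ RA K V)
    (hAS : A ≤ S) (hcomm : ∀ f ∈ A, ∀ g ∈ A, f * g = g * f)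
    (hspan : Submodule.span K {X : R K V | ∃ x : (R K V)ˣ, (x : R K V) = X ∧ cj K V x ∈ A} = ⊤)
    (hAI : A ≤ IN K V) (hnorm : ∀ g ∈ S, ∀ f ∈ A, g * f * g⁻¹ ∈ A)
    {r : ℕ} {ω : K} {P Z : (R K V)ˣ} (hPA : cj K V P ∈ A) (hZA : cj K V Z ∈ A) (h : Heis r ω P Z) : Five S := by
  obtain ⟨b, hbZ, hbP⟩ := h.exists_basis
  obtain ⟨δ, hδ⟩ := exists_gen K h.hr h.prim
  have hnt : Nontrivial V := by
    apply Module.nontrivial_of_finrank_pos (R := K)
    rw [h.rank]; exact h.hr.pos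
  set x : (R K V)ˣ := uN _ (h.EE (b := b) δ) with hx
  -- every element of `A` is `P^i Z^j`
  have hlift : ∀ f ∈ A, ∃ i j : ℕ, f = cj K V (P ^ i * Z ^ j) := by
    intro f hf
    obtain ⟨Y, rfl⟩ := hAI hf
    obtain ⟨c₁, h1⟩ := exists_comm (hcomm _ hf _ hZA)
    obtain ⟨c₂, h2⟩ := exists_comm (hcomm _ hf _ hPA)
    exact h.lift h1 h2
  -- (1)
  have one : ∀ f ∈ S, f * cj K V P * f⁻¹ = cj K V P → f * cj K V Z * f⁻¹ = cj K V Z →
      cj K V x * f * (cj K V x)⁻¹ ∈ S → f = 1 := by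
    intro f hf fP fZ hxf
    have hg : cj K V x * f * (cj K V x)⁻¹ * f⁻¹ ∈ S := S.mul_mem hxf (S.inv_mem hf)
    obtain ⟨i, j, hij⟩ := hlift _ (hnorm _ hg _ hZA)
    obtain ⟨gP, gZ, glin, gm⟩ := h.star hbZ hbP hδ (hS hf) fP fZ rfl hij
    apply Equiv.ext
    intro X
    rw [Equiv.Perm.one_apply]
    have hX : X ∈ Submodule.span K {X : R K V | ∃ x : (R K V)ˣ, (x : R K V) = X ∧ cj K V x ∈ A} := by
      rw [hspan]; exact Submodule.mem_top
    induction hX using Submodule.span_induction with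
    | mem X hX =>
      obtain ⟨y, rfl, hy⟩ := hX
      obtain ⟨i', j', h1⟩ := hlift _ hy
      obtain ⟨c, hc⟩ := cj_eq_cj h1
      rw [hc, glin, Units.val_mul, Units.val_pow_eq_pow_val, Units.val_pow_eq_pow_val, gm, ra_pow (hS hf),
        ra_pow (hS hf), gP, gZ]
    | zero => exact ra_zero (hS hf)
    | add X Y _ _ hX hY => rw [ra_add (hS hf), hX, hY]
    | smul c X _ hX => rw [glin, hX]
  -- (2)
  have two : ∀ f ∈ S, cj K V x * f * (cj K V x)⁻¹ ∈ S → ∀ Y : (R K V)ˣ, cj K V Y ∈ A →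
      cj K V (x * Y) * f * (cj K V (x * Y))⁻¹ ∈ S → f * cj K V Y * f⁻¹ = cj K V Y := by
    intro f hf hxf Y hY hxY
    have h1 : cj K V Y * (f * (cj K V Y)⁻¹ * f⁻¹) ∈ A := A.mul_mem hY (hnorm f hf _ (A.inv_mem hY))
    have h2 : cj K V x * (cj K V Y * (f * (cj K V Y)⁻¹ * f⁻¹)) * (cj K V x)⁻¹ ∈ S := by
      have h3 := S.mul_mem hxY (S.inv_mem hxf)
      have h4 : cj K V (x * Y) * f * (cj K V (x * Y))⁻¹ * (cj K V x * f * (cj K V x)⁻¹)⁻¹ =
          cj K V x * (cj K V Y * (f * (cj K V Y)⁻¹ * f⁻¹)) * (cj K V x)⁻¹ := by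
        rw [map_mul]
        group
      rwa [h4] at h3
    have h5 : ∀ W ∈ A, (cj K V Y * (f * (cj K V Y)⁻¹ * f⁻¹)) * W * (cj K V Y * (f * (cj K V Y)⁻¹ * f⁻¹))⁻¹ = W := by
      intro W hW
      rw [hcomm _ h1 _ hW, mul_inv_cancel_right]
    have h6 := one _ (hAS h1) (h5 _ hPA) (h5 _ hZA) h2
    have h7 : f * (cj K V Y)⁻¹ * f⁻¹ = (cj K V Y)⁻¹ := (inv_eq_of_mul_eq_one_right h6).symm
    have h8 : (f * (cj K V Y)⁻¹ * f⁻¹)⁻¹ = f * cj K V Y * f⁻¹ := by group
    rw [← h8, h7, inv_inv]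
  refine ⟨![x, x * P, x * Z, x], ?_, ?_⟩
  · have hdx : LinearMap.det (x : R K V) = 1 := det_uN _ _
    have hdP : LinearMap.det ((x * P : (R K V)ˣ) : R K V) = 1 := by
      rw [Units.val_mul, map_mul, hdx, h.det_P, one_mul]
    have hdZ : LinearMap.det ((x * Z : (R K V)ˣ) : R K V) = 1 := by
      rw [Units.val_mul, map_mul, hdx, h.det_Z, one_mul]
    intro i
    fin_cases i
    · exact hdx
    · exact hdP
    · exact hdZ
    · exact hdx
  · intro f hf hi
    have h0 : cj K V x * f * (cj K V x)⁻¹ ∈ S := hi 0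
    have h1 : cj K V (x * P) * f * (cj K V (x * P))⁻¹ ∈ S := hi 1
    have h2 : cj K V (x * Z) * f * (cj K V (x * Z))⁻¹ ∈ S := hi 2
    exact one f hf (two f hf h0 P hPA h1) (two f hf h0 Z hZA h2) h0

/-- **extraspecial normalizers in odd prime degree** -/
theorem stmtC6_prime : StmtC6On.{u, v} (fun n => n.Prime ∧ n ≠ 2) := by
  intro K _ _ V _ _ _ S hS _ _ A r a h hn
  have hnt : Nontrivial V := by
    apply Module.nontrivial_of_finrank_pos (R := K)
    exact hn.1.pos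
  obtain ⟨ω, P, Z, hP, hZ, hH⟩ := exists_heis hS h hn.1 hn.2
  obtain ⟨hr, ha, hfr, hAS, hAI, -, hpow, hcomm, hspan, hnorm, hmin⟩ := h
  exact five_of_heis hS hAS hcomm hspan hAI hnorm hP hZ hH

/-- task 5368 -/
theorem stmtC6_three : StmtC6On.{u, v} (fun n => n = 3) := by
  intro K _ _ V _ _ _ S hS h2 hs A r a h hn
  exact stmtC6_prime K V S hS h2 hs A r a h ⟨by rw [hn]; norm_num, by omega⟩

theorem stmtC6_five : StmtC6On.{u, v} (fun n => n = 5) := by
  intro K _ _ V _ _ _ S hS h2 hs A r a h hn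
  exact stmtC6_prime K V S hS h2 hs A r a h ⟨by rw [hn]; norm_num, by omega⟩

theorem stmtC6_seven : StmtC6On.{u, v} (fun n => n = 7) := by
  intro K _ _ V _ _ _ S hS h2 hs A r a h hn
  exact stmtC6_prime K V S hS h2 hs A r a h ⟨by rw [hn]; norm_num, by omega⟩

end Cfsg.Agent.H710.FC
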