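import Cfsg.Agent.H710.FC.Heis

/-!
# S5764, extraspecial normalizers in odd prime degree (helper710): the core computation
-/

set_option autoImplicit false

universe u v

namespace Cfsg.Agent.H710.FC

open Module Cfsg.Agent.H198.FC Cfsg.Agent.H886.FC

theorem det_one_of_nilp {K : Type*} [Field K] {V : Type*} [AddCommGroup V] [Module K V] [FiniteDimensional K V]
    {f : V →ₗ[K] V} (h : IsNilpotent (f - 1)) : LinearMap.det f = 1 := by
  have h1 : IsNilpotent (1 - f) := by
    rw [← neg_sub]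
    exact h.neg
  have h2 := h1.charpoly_eq_X_pow_finrank
  have h3 := LinearMap.eval_charpoly (1 - f) (1 : K)
  rw [h2, Polynomial.eval_pow, Polynomial.eval_X, one_pow] at h3
  rw [h3, map_one]
  congr 1
  abel

variable {K : Type u} [Field K] {V : Type v} [AddCommGroup V] [Module K V]

theorem cj_eq_cj {x y : (R K V)ˣ} (h : cj K V x = cj K V y) : ∃ c : K, (x : R K V) = c • (y : R K V) := by
  have h1 : cj K V (x * y⁻¹) = 1 := by rw [map_mul, map_inv, h, mul_inv_cancel]
  obtain ⟨c, hc⟩ := cj_eq_one h1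
  refine ⟨c, ?_⟩
  calc (x : R K V) = ((x * y⁻¹ : (R K V)ˣ) : R K V) * y := by
        rw [Units.val_mul, mul_assoc, Units.inv_mul, mul_one]
    _ = c • (y : R K V) := by rw [hc, smul_mul_assoc, one_mul]

/-- if `Y` and `M` commute with `X` up to the same scalar then `Y M⁻¹` commutes with `X` -/
theorem comm_div {Y M X : (R K V)ˣ} {c : K} (hc : c ≠ 0) (hY : (Y : R K V) * X = c • ((X : R K V) * Y))
    (hM : (M : R K V) * X = c • ((X : R K V) * M)) :
    ((Y * M⁻¹ : (R K V)ˣ) : R K V) * X = X * ((Y * M⁻¹ : (R K V)ˣ) : R K V) := by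
  have h1 : (X : R K V) * (M⁻¹ : (R K V)ˣ) = c • (((M⁻¹ : (R K V)ˣ) : R K V) * X) := by
    calc (X : R K V) * (M⁻¹ : (R K V)ˣ)
        = ((M⁻¹ : (R K V)ˣ) : R K V) * ((M : R K V) * X) * (M⁻¹ : (R K V)ˣ) := by
          rw [← mul_assoc, Units.inv_mul, one_mul]
      _ = c • (((M⁻¹ : (R K V)ˣ) : R K V) * X) := by
          rw [hM, mul_smul_comm, smul_mul_assoc, mul_assoc, mul_assoc, Units.mul_inv, mul_one]
  apply smul_right_injective (R K V) hc
  show c • _ = c • _
  rw [Units.val_mul, mul_assoc, ← mul_smul_comm, ← h1, ← mul_assoc, hY, smul_mul_assoc, mul_assoc]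

namespace Heis

variable {r : ℕ} {ω : K} {P Z : (R K V)ˣ}

theorem ZP_pow (h : Heis r ω P Z) (k : ℕ) :
    (Z : R K V) * (P : R K V) ^ k = ω ^ k • ((P : R K V) ^ k * Z) :=
  LinearMap.ext fun v => h.Z_pow k v

theorem Z_powP (h : Heis r ω P Z) (k : ℕ) :
    (Z : R K V) ^ k * (P : R K V) = ω ^ k • ((P : R K V) * (Z : R K V) ^ k) := by
  have h1 := h.symm.ZP_pow k
  rw [h1, smul_smul, ← mul_pow, mul_inv_cancel₀ h.ω_ne, one_pow, one_smul]

/-- the lifts -/
theorem lift [Module.Finite K V] (h : Heis r ω P Z) {Y : (R K V)ˣ} {c₁ c₂ : K}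
    (h1 : (Y : R K V) * Z = c₁ • ((Z : R K V) * Y)) (h2 : (Y : R K V) * P = c₂ • ((P : R K V) * Y)) :
    ∃ i j : ℕ, cj K V Y = cj K V (P ^ i * Z ^ j) := by
  have : NeZero r := ⟨h.hr.ne_zero⟩
  have hnt : Nontrivial V := by
    apply Module.nontrivial_of_finrank_pos (R := K)
    rw [h.rank]; exact h.hr.pos
  have key : ∀ {X : (R K V)ˣ} {c : K}, X ^ r = 1 → (Y : R K V) * X = c • ((X : R K V) * Y) → c ^ r = 1 := by
    intro X c hX hc
    have h3 : ∀ k : ℕ, (Y : R K V) * (X : R K V) ^ k = c ^ k • ((X : R K V) ^ k * Y) := by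
      intro k
      induction k with
      | zero => simp
      | succ k ih =>
        rw [pow_succ, ← mul_assoc, ih, smul_mul_assoc, mul_assoc, hc, mul_smul_comm, smul_smul, mul_assoc,
          ← pow_succ]
    have h4 := h3 r
    rw [← Units.val_pow_eq_pow_val, hX, Units.val_one, mul_one, one_mul] at h4
    have h5 : (c ^ r - 1) • (Y : R K V) = 0 := by rw [sub_smul, one_smul, ← h4, sub_self]
    have h6 : (Y : R K V) ≠ 0 := Y.ne_zero
    exact sub_eq_zero.1 ((smul_eq_zero.1 h5).resolve_right h6)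
  have k1 := key h.Zr h1
  have k2 := key h.Pr h2
  have hc1 : c₁ ≠ 0 := by rintro rfl; rw [zero_pow h.hr.ne_zero] at k1; exact zero_ne_one k1
  have hc2 : c₂ ≠ 0 := by rintro rfl; rw [zero_pow h.hr.ne_zero] at k2; exact zero_ne_one k2
  obtain ⟨i, -, hi⟩ := h.prim.eq_pow_of_pow_eq_one (ξ := c₁⁻¹) (by rw [inv_pow, k1, inv_one])
  obtain ⟨j, -, hj⟩ := h.prim.eq_pow_of_pow_eq_one k2
  have hM : ((P ^ i * Z ^ j : (R K V)ˣ) : R K V) = (P : R K V) ^ i * (Z : R K V) ^ j := by
    rw [Units.val_mul, Units.val_pow_eq_pow_val, Units.val_pow_eq_pow_val]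
  refine ⟨i, j, ?_⟩
  have m1 : ((P ^ i * Z ^ j : (R K V)ˣ) : R K V) * Z = c₁ • ((Z : R K V) * ((P ^ i * Z ^ j : (R K V)ˣ) : R K V)) := by
    rw [hM, ← mul_assoc, h.ZP_pow, smul_mul_assoc, smul_smul, hi, mul_inv_cancel₀ hc1, one_smul, mul_assoc, mul_assoc,
      ← pow_succ, ← pow_succ']
  have m2 : ((P ^ i * Z ^ j : (R K V)ˣ) : R K V) * P = c₂ • ((P : R K V) * ((P ^ i * Z ^ j : (R K V)ˣ) : R K V)) := by
    rw [hM, mul_assoc, h.Z_powP, mul_smul_comm, hj, ← mul_assoc, ← mul_assoc, ← pow_succ, ← pow_succ']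
  obtain ⟨c, hc⟩ := h.scalar (comm_div hc2 h2 m2) (comm_div hc1 h1 m1)
  have h7 := cj_scalar hc
  rw [map_mul, map_inv, mul_inv_eq_one] at h7
  exact h7

variable {b : Basis (ZMod r) K V}

/-- coordinates -/
theorem repr_D (h : Heis r ω P Z) {d : ZMod r → K} {D : R K V} (hD : ∀ i, D (b i) = d i • b i) (w : V)
    (j : ZMod r) : b.repr (D w) j = d j * b.repr w j := by
  have : NeZero r := ⟨h.hr.ne_zero⟩
  have h4 : w = ∑ k, b.repr w k • b k := (b.sum_repr w).symm
  conv_lhs => rw [h4]
  rw [map_sum, map_sum, Finsupp.finsetSum_apply, Finset.sum_eq_single j]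
  · rw [map_smul, hD, map_smul, map_smul, Basis.repr_self, Finsupp.smul_apply, Finsupp.smul_apply,
      Finsupp.single_eq_same, smul_eq_mul, smul_eq_mul, mul_one, mul_comm]
  · intro k _ hk
    rw [map_smul, hD, map_smul, map_smul, Basis.repr_self, Finsupp.smul_apply, Finsupp.smul_apply,
      Finsupp.single_eq_of_ne (Ne.symm hk), smul_zero, smul_zero]
  · intro hj; exact absurd (Finset.mem_univ j) hj

theorem eigvec (h : Heis r ω P Z) (hZ : ∀ i, (Z : R K V) (b i) = ch r ω i • b i) {w : V} (hw : w ≠ 0) {c : K}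
    (hc : (Z : R K V) w = c • w) : ∃ (k : ZMod r) (t : K), ch r ω k = c ∧ t ≠ 0 ∧ w = t • b k := by
  have h1 : ∃ k, b.repr w k ≠ 0 := by
    by_contra hcon
    push Not at hcon
    exact hw (b.repr.injective (by rw [map_zero]; exact Finsupp.ext hcon))
  obtain ⟨k, hk⟩ := h1
  have h2 : ∀ j, (ch r ω j - c) * b.repr w j = 0 := by
    intro j
    have h3 := h.repr_D hZ w j
    rw [hc, map_smul, Finsupp.smul_apply, smul_eq_mul] at h3
    rw [sub_mul, ← h3, sub_self]
  have h4 : ch r ω k = c := sub_eq_zero.1 ((mul_eq_zero.1 (h2 k)).resolve_right hk)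
  refine ⟨k, b.repr w k, h4, hk, b.repr.injective (Finsupp.ext fun j => ?_)⟩
  rw [map_smul, Basis.repr_self, Finsupp.smul_apply, Finsupp.single_apply]
  by_cases hj : k = j
  · rw [if_pos hj, hj, smul_eq_mul, mul_one]
  · rw [if_neg hj, smul_zero]
    rcases mul_eq_zero.1 (h2 j) with h5 | h5
    · rw [← h4] at h5
      exact absurd (h.ch_inj (sub_eq_zero.1 h5)).symm hj
    · exact h5

theorem eigmap (h : Heis r ω P Z) (hZ : ∀ i, (Z : R K V) (b i) = ch r ω i • b i) {T : R K V} (hT : T ≠ 0)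
    {a c : K} (ha : T * Z = a • T) (hc : (Z : R K V) * T = c • T) :
    ∃ (k l : ZMod r) (t : K), ch r ω l = a ∧ ch r ω k = c ∧ t ≠ 0 ∧ T (b l) = t • b k ∧ ∀ m, m ≠ l → T (b m) = 0 := by
  have h1 : ∃ l, T (b l) ≠ 0 := by
    by_contra hcon
    push Not at hcon
    exact hT (b.ext fun i => by rw [hcon i]; rfl)
  obtain ⟨l, hl⟩ := h1
  have h2 : ∀ m, (ch r ω m - a) • T (b m) = 0 := by
    intro m
    have h3 := LinearMap.congr_fun ha (b m)
    rw [Module.End.mul_apply, hZ, map_smul, LinearMap.smul_apply] at h3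
    rw [sub_smul, h3, sub_self]
  have h4 : ch r ω l = a := sub_eq_zero.1 ((smul_eq_zero.1 (h2 l)).resolve_right hl)
  obtain ⟨k, t, hk, ht, hkt⟩ := h.eigvec hZ hl (c := c) (by
    have h5 := LinearMap.congr_fun hc (b l)
    rwa [Module.End.mul_apply, LinearMap.smul_apply] at h5)
  refine ⟨k, l, t, h4, hk, ht, hkt, fun m hm => ?_⟩
  rcases smul_eq_zero.1 (h2 m) with h5 | h5
  · rw [← h4] at h5
    exact absurd (h.ch_inj (sub_eq_zero.1 h5)) hm
  · exact h5

/-- the matrix unit `E_{01}` -/
noncomputable def E (b : Basis (ZMod r) K V) : R K V := b.constr K fun i => if i = 1 then b 0 else 0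

theorem E_one : E b (b 1) = b 0 := by
  show b.constr K _ (b 1) = b 0
  rw [Basis.constr_basis, if_pos rfl]

theorem E_ne {m : ZMod r} (hm : m ≠ 1) : E b (b m) = 0 := by
  show b.constr K _ (b m) = 0
  rw [Basis.constr_basis, if_neg hm]

theorem zero_ne (h : Heis r ω P Z) : (0 : ZMod r) ≠ 1 := by
  have : Fact (1 < r) := ⟨h.hr.one_lt⟩
  exact zero_ne_one

theorem E_sq (h : Heis r ω P Z) : E b * E b = 0 := by
  refine b.ext fun i => ?_
  by_cases hi : i = 1
  · rw [hi, Module.End.mul_apply, E_one, E_ne h.zero_ne]; rfl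
  · rw [Module.End.mul_apply, E_ne hi, map_zero]; rfl

theorem E_ne_zero : E b ≠ 0 := by
  intro h0
  have h1 : E b (b 1) = b 0 := E_one
  rw [h0] at h1
  exact b.ne_zero 0 h1.symm

theorem E_Z (h : Heis r ω P Z) (hZ : ∀ i, (Z : R K V) (b i) = ch r ω i • b i) : E b * Z = ω • E b := by
  refine b.ext fun i => ?_
  rw [Module.End.mul_apply, hZ, map_smul, LinearMap.smul_apply]
  by_cases hi : i = 1
  · rw [hi, h.ch_one]
  · rw [E_ne hi, smul_zero, smul_zero]

theorem Z_E (h : Heis r ω P Z) (hZ : ∀ i, (Z : R K V) (b i) = ch r ω i • b i) : (Z : R K V) * E b = E b := by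
  refine b.ext fun i => ?_
  rw [Module.End.mul_apply]
  by_cases hi : i = 1
  · rw [hi, E_one, hZ, h.ch_zero, one_smul]
  · rw [E_ne hi, map_zero]

theorem EP_sq (hP : ∀ i, (P : R K V) (b i) = b (i + 1)) : E b * P * (E b * P) = E b * P := by
  have h1 : ∀ i, (E b * P) (b i) = E b (b (i + 1)) := fun i => by rw [Module.End.mul_apply, hP]
  refine b.ext fun i => ?_
  rw [Module.End.mul_apply, h1]
  by_cases hi : i = 0
  · rw [hi, zero_add, E_one, h1, zero_add, E_one]
  · have hi' : i + 1 ≠ 1 := fun h0 => hi (by simpa using h0)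
    rw [E_ne hi', map_zero]

theorem EP_ne (hP : ∀ i, (P : R K V) (b i) = b (i + 1)) : E b * P ≠ 0 := by
  intro h0
  have h1 : (E b * P) (b 0) = b 0 := by rw [Module.End.mul_apply, hP, zero_add, E_one]
  rw [h0] at h1
  exact b.ne_zero 0 h1.symm

/-- **the core computation** -/
theorem core (h : Heis r ω P Z) (hZ : ∀ i, (Z : R K V) (b i) = ch r ω i • b i)
    (hP : ∀ i, (P : R K V) (b i) = b (i + 1)) {δ : K} (hδ : δ ≠ 0) {T : R K V} (hT : T ≠ 0) {a c : K}
    (ha : T * Z = a • T) (hc : (Z : R K V) * T = c • T) (hac : a ≠ c) {U : R K V}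
    (hU : U = (1 + δ • E b) * (1 + T)) {i j : ℕ} {ν : K}
    (hUZ : U * Z = (ν • ((P : R K V) ^ i * (Z : R K V) ^ j)) * U) : T = -(δ • E b) := by
  have : NeZero r := ⟨h.hr.ne_zero⟩
  obtain ⟨k, l, t, hla, hkc, ht, hTl, hTm⟩ := h.eigmap hZ hT ha hc
  have hkl : k ≠ l := by rintro rfl; exact hac (hla.symm.trans hkc)
  have h01 := h.zero_ne
  -- `P^i Z^j` on the basis
  have hPi : ∀ (n : ℕ) (m : ZMod r), ((P : R K V) ^ n) (b m) = b (m + n) := by
    intro n m
    induction n with
    | zero => rw [pow_zero, Nat.cast_zero, add_zero]; rfl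
    | succ n ih => rw [pow_succ', Module.End.mul_apply, ih, hP, Nat.cast_succ, add_assoc]
  have hZj : ∀ (n : ℕ) (m : ZMod r), ((Z : R K V) ^ n) (b m) = ch r ω m ^ n • b m := by
    intro n m
    induction n with
    | zero => rw [pow_zero, pow_zero, one_smul]; rfl
    | succ n ih => rw [pow_succ', Module.End.mul_apply, ih, map_smul, hZ, smul_smul, pow_succ]
  set Y : R K V := ν • ((P : R K V) ^ i * (Z : R K V) ^ j) with hY
  have hYm : ∀ m, Y (b m) = (ν * ch r ω m ^ j) • b (m + i) := by
    intro m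
    rw [hY, LinearMap.smul_apply, Module.End.mul_apply, hZj, map_smul, hPi, smul_smul]
  have hUb : ∀ v, U v = (v + T v) + δ • E b (v + T v) := by
    intro v
    rw [hU]
    rfl
  have hUm : ∀ m, m ≠ 1 → m ≠ l → U (b m) = b m := by
    intro m h1 h2
    rw [hUb, hTm m h2, add_zero, E_ne h1, smul_zero, add_zero]
  have hUY : ∀ m, ch r ω m • U (b m) = Y (U (b m)) := by
    intro m
    have h1 := LinearMap.congr_fun hUZ (b m)
    rwa [Module.End.mul_apply, hZ, map_smul, Module.End.mul_apply] at h1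
  -- a third index
  have h3 : ∃ m : ZMod r, m ≠ 1 ∧ m ≠ l := by
    by_contra hcon
    push Not at hcon
    have h4 : (Finset.univ : Finset (ZMod r)) ⊆ {1, l} := by
      intro m _
      rw [Finset.mem_insert, Finset.mem_singleton]
      by_cases hm : m = 1
      · exact Or.inl hm
      · exact Or.inr (hcon m hm)
    have h5 := (Finset.card_le_card h4).trans Finset.card_le_two
    rw [Finset.card_univ, ZMod.card] at h5
    have h6 := h.hr.two_le
    have h7 := h.odd
    omega
  have hi0 : (i : ZMod r) = 0 := by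
    obtain ⟨m, hm1, hml⟩ := h3
    have h4 := hUY m
    rw [hUm m hm1 hml, hYm] at h4
    by_contra hi
    have h5 := congrArg (fun v => b.repr v m) h4
    have h6 : m + (i : ZMod r) ≠ m := by simpa using hi
    simp only [map_smul, Basis.repr_self, Finsupp.smul_apply, Finsupp.single_eq_same,
      Finsupp.single_eq_of_ne (Ne.symm h6), smul_eq_mul, mul_one, mul_zero] at h5
    exact h.ch_ne m h5
  have hYd : ∀ m, Y (b m) = (ν * ch r ω m ^ j) • b m := by
    intro m
    rw [hYm, hi0, add_zero]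
  set d : ZMod r → K := fun m => ν * ch r ω m ^ j with hd
  have hmn : ∀ m n, b.repr (U (b m)) n ≠ 0 → ch r ω m = d n := by
    intro m n hne
    have h4 := congrArg (fun v => b.repr v n) (hUY m)
    simp only [map_smul, Finsupp.smul_apply, smul_eq_mul] at h4
    rw [h.repr_D hYd] at h4
    exact mul_right_cancel₀ hne h4
  have hdm : ∀ m, m ≠ 1 → m ≠ l → ch r ω m = d m := by
    intro m h1 h2
    apply hmn
    rw [hUm m h1 h2, Basis.repr_self, Finsupp.single_eq_same]
    exact one_ne_zero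
  by_cases hl1 : l = 1
  · subst hl1
    have hU1 : U (b 1) = b 1 + δ • b 0 + t • b k := by
      rw [hUb, hTl, map_add, map_smul, E_one, E_ne hkl, smul_zero, add_zero]
      abel
    have h5 : ch r ω 1 = d 0 → False := fun h6 =>
      h01 (h.ch_inj ((hdm 0 h01 h01).trans h6.symm))
    by_cases hk0 : k = 0
    · subst hk0
      have h6 : δ + t = 0 := by
        by_contra hne
        apply h5
        apply hmn
        rw [hU1, map_add, map_add, map_smul, map_smul, Basis.repr_self, Basis.repr_self, Finsupp.add_apply,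
          Finsupp.add_apply, Finsupp.smul_apply, Finsupp.smul_apply, Finsupp.single_eq_same,
          Finsupp.single_eq_of_ne h01, zero_add, smul_eq_mul, smul_eq_mul, mul_one, mul_one]
        exact hne
      refine b.ext fun m => ?_
      by_cases hm : m = 1
      · rw [hm, hTl, LinearMap.neg_apply, LinearMap.smul_apply, E_one, ← neg_smul]
        congr 1
        linear_combination h6
      · rw [hTm m hm, LinearMap.neg_apply, LinearMap.smul_apply, E_ne hm, smul_zero, neg_zero]
    · exfalso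
      apply h5
      apply hmn
      rw [hU1, map_add, map_add, map_smul, map_smul, Basis.repr_self, Basis.repr_self, Basis.repr_self,
        Finsupp.add_apply, Finsupp.add_apply, Finsupp.smul_apply, Finsupp.smul_apply, Finsupp.single_eq_same,
        Finsupp.single_eq_of_ne h01, Finsupp.single_eq_of_ne (Ne.symm hk0), zero_add, smul_zero, add_zero,
        smul_eq_mul, mul_one]
      exact hδ
  · exfalso
    have hU1 : U (b 1) = b 1 + δ • b 0 := by
      rw [hUb, hTm 1 (Ne.symm hl1), add_zero, E_one]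
    have h5 : ch r ω 1 = d 0 := by
      apply hmn
      rw [hU1, map_add, map_smul, Basis.repr_self, Basis.repr_self, Finsupp.add_apply, Finsupp.smul_apply,
        Finsupp.single_eq_same, Finsupp.single_eq_of_ne h01, zero_add, smul_eq_mul, mul_one]
      exact hδ
    by_cases hl0 : l = 0
    · subst hl0
      by_cases hk1 : k = 1
      · subst hk1
        have hU0 : U (b 0) = b 0 + t • b 1 + (δ * t) • b 0 := by
          rw [hUb, hTl, map_add, map_smul, E_one, E_ne h01, zero_add, smul_smul]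
        have h6 : ch r ω 0 = d 1 := by
          apply hmn
          rw [hU0, map_add, map_add, map_smul, map_smul, Basis.repr_self, Basis.repr_self, Finsupp.add_apply,
            Finsupp.add_apply, Finsupp.smul_apply, Finsupp.smul_apply, Finsupp.single_eq_same,
            Finsupp.single_eq_of_ne (Ne.symm h01), zero_add, smul_zero, add_zero, smul_eq_mul, mul_one]
          exact ht
        have h7 : ch r ω 1 = d 1 := by
          apply hmn
          rw [hU1, map_add, map_smul, Basis.repr_self, Basis.repr_self, Finsupp.add_apply, Finsupp.smul_apply,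
            Finsupp.single_eq_same, Finsupp.single_eq_of_ne (Ne.symm h01), smul_zero, add_zero]
          exact one_ne_zero
        exact h01 (h.ch_inj (h6.trans h7.symm))
      · have hU0 : U (b 0) = b 0 + t • b k := by
          rw [hUb, hTl, map_add, map_smul, E_ne hk1, E_ne h01, smul_zero, add_zero, smul_zero, add_zero]
        have h6 : ch r ω 0 = d 0 := by
          apply hmn
          rw [hU0, map_add, map_smul, Basis.repr_self, Basis.repr_self, Finsupp.add_apply, Finsupp.smul_apply,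
            Finsupp.single_eq_same, Finsupp.single_eq_of_ne (Ne.symm hkl), smul_zero, add_zero]
          exact one_ne_zero
        exact h01 (h.ch_inj (h6.trans h5.symm))
    · exact h01 (h.ch_inj ((hdm 0 h01 (Ne.symm hl0)).trans h5.symm))

end Heis

end Cfsg.Agent.H710.FC
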