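import Cfsg.Agent.H886.FC.Base
import Mathlib.NumberTheory.LegendreSymbol.AddCharacter

/-!
# S5764, extraspecial normalizers in odd prime degree (helper710): the Heisenberg pair

`Heis r ω P Z`: `P^r = Z^r = 1`, `Z P = ω P Z`, `dim V = r` an odd prime, `ω` a primitive `r`-th root of unity.
-/

set_option autoImplicit false

universe u v

namespace Cfsg.Agent.H710.FC

open Module Cfsg.Agent.H198.FC Cfsg.Agent.H886.FC

variable {K : Type u} [Field K] {V : Type v} [AddCommGroup V] [Module K V]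

/-- the Heisenberg pair -/
structure Heis (r : ℕ) (ω : K) (P Z : (R K V)ˣ) : Prop where
  hr : r.Prime
  odd : r ≠ 2
  prim : IsPrimitiveRoot ω r
  rank : finrank K V = r
  Pr : P ^ r = 1
  Zr : Z ^ r = 1
  comm : (Z : R K V) * P = ω • ((P : R K V) * Z)

namespace Heis

variable {r : ℕ} {ω : K} {P Z : (R K V)ˣ}

theorem hω (h : Heis r ω P Z) : ω ^ r = 1 := h.prim.pow_eq_one

theorem ω_ne (h : Heis r ω P Z) : ω ≠ 0 := h.prim.ne_zero h.hr.ne_zero

theorem symm (h : Heis r ω P Z) : Heis r ω⁻¹ Z P where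
  hr := h.hr
  odd := h.odd
  prim := h.prim.inv
  rank := h.rank
  Pr := h.Zr
  Zr := h.Pr
  comm := by rw [h.comm, smul_smul, inv_mul_cancel₀ h.ω_ne, one_smul]

theorem ZP (h : Heis r ω P Z) (v : V) : (Z : R K V) ((P : R K V) v) = ω • (P : R K V) ((Z : R K V) v) :=
  LinearMap.congr_fun h.comm v

theorem Z_pow (h : Heis r ω P Z) (k : ℕ) (v : V) :
    (Z : R K V) (((P : R K V) ^ k) v) = ω ^ k • ((P : R K V) ^ k) ((Z : R K V) v) := by
  induction k generalizing v with
  | zero => simp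
  | succ k ih =>
    rw [pow_succ', Module.End.mul_apply, h.ZP, ih, map_smul, smul_smul, Module.End.mul_apply, ← pow_succ']

theorem Zr' (h : Heis r ω P Z) : (Z : R K V) ^ r = 1 := by
  rw [← Units.val_pow_eq_pow_val, h.Zr, Units.val_one]

theorem Pr' (h : Heis r ω P Z) : (P : R K V) ^ r = 1 := by
  rw [← Units.val_pow_eq_pow_val, h.Pr, Units.val_one]

theorem inj_pow {P : (R K V)ˣ} (k : ℕ) {v : V} (hv : v ≠ 0) : ((P : R K V) ^ k) v ≠ 0 := by
  intro h0
  apply hv
  have h1 : (((P ^ k)⁻¹ : (R K V)ˣ) : R K V) (((P ^ k : (R K V)ˣ) : R K V) v) = v := by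
    rw [← Module.End.mul_apply, Units.inv_mul]; rfl
  rw [← h1, Units.val_pow_eq_pow_val, h0, map_zero]

/-- an eigenvector for the eigenvalue `1` -/
theorem exists_fix [Module.Finite K V] (h : Heis r ω P Z) : ∃ v : V, v ≠ 0 ∧ (Z : R K V) v = v := by
  have : NeZero r := ⟨h.hr.ne_zero⟩
  have hnt : Nontrivial V := by
    apply Module.nontrivial_of_finrank_pos (R := K)
    rw [h.rank]; exact h.hr.pos
  have h1 : minpoly K (Z : R K V) ∣ Polynomial.X ^ r - Polynomial.C 1 := by
    apply minpoly.dvd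
    rw [map_sub, map_pow, Polynomial.aeval_X, h.Zr', Polynomial.aeval_C, map_one, sub_self]
  have h2 : (minpoly K (Z : R K V)).Splits :=
    Polynomial.Splits.of_dvd (Polynomial.X_pow_sub_one_splits h.prim)
      (Polynomial.X_pow_sub_C_ne_zero h.hr.pos 1) h1
  have h3 : (minpoly K (Z : R K V)).degree ≠ 0 :=
    (minpoly.degree_pos (Algebra.IsIntegral.isIntegral _)).ne'
  obtain ⟨κ, hκ⟩ := h2.exists_eval_eq_zero h3
  obtain ⟨v, hv⟩ := (Module.End.hasEigenvalue_of_isRoot hκ).exists_hasEigenvector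
  have hv1 : (Z : R K V) v = κ • v := hv.apply_eq_smul
  have hv0 : v ≠ 0 := hv.2
  have h4 : κ ^ r = 1 := by
    have h5 : ∀ k : ℕ, ((Z : R K V) ^ k) v = κ ^ k • v := by
      intro k
      induction k with
      | zero => simp
      | succ k ih => rw [pow_succ', Module.End.mul_apply, ih, map_smul, hv1, smul_smul, pow_succ]
    have h6 := h5 r
    rw [h.Zr', Module.End.one_apply] at h6
    have h7 : (κ ^ r - 1) • v = 0 := by rw [sub_smul, one_smul, ← h6, sub_self]
    exact sub_eq_zero.1 ((smul_eq_zero.1 h7).resolve_right hv0)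
  obtain ⟨k, hk, rfl⟩ := h.prim.eq_pow_of_pow_eq_one h4
  refine ⟨((P : R K V) ^ (r - k)) v, inj_pow _ hv0, ?_⟩
  rw [h.Z_pow, hv1, map_smul, smul_smul, ← pow_add, Nat.sub_add_cancel hk.le, h.hω, one_smul]

/-- the character `i ↦ ω^i` of `Z/r` -/
noncomputable def ch (r : ℕ) (ω : K) : ZMod r → K := fun i => ω ^ i.val

theorem ch_nat (h : Heis r ω P Z) (n : ℕ) : ch r ω (n : ZMod r) = ω ^ n := by
  show ω ^ (n : ZMod r).val = ω ^ n
  rw [ZMod.val_natCast, ← pow_eq_pow_mod n h.hω]

theorem ch_zero (h : Heis r ω P Z) : ch r ω 0 = 1 := by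
  have := h.ch_nat 0
  rwa [Nat.cast_zero, pow_zero] at this

theorem ch_one (h : Heis r ω P Z) : ch r ω 1 = ω := by
  have := h.ch_nat 1
  rwa [Nat.cast_one, pow_one] at this

theorem ch_inj (h : Heis r ω P Z) : Function.Injective (ch r ω) := by
  intro i j hij
  have : NeZero r := ⟨h.hr.ne_zero⟩
  exact ZMod.val_injective r (h.prim.pow_inj (ZMod.val_lt i) (ZMod.val_lt j) hij)

theorem ch_ne (h : Heis r ω P Z) (i : ZMod r) : ch r ω i ≠ 0 := pow_ne_zero _ h.ω_ne

theorem exists_ch (h : Heis r ω P Z) {a : K} (ha : a ^ r = 1) : ∃ i, ch r ω i = a := by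
  have : NeZero r := ⟨h.hr.ne_zero⟩
  obtain ⟨k, hk, rfl⟩ := h.prim.eq_pow_of_pow_eq_one ha
  exact ⟨(k : ZMod r), h.ch_nat k⟩

/-- the eigenbasis -/
theorem exists_basis [Module.Finite K V] (h : Heis r ω P Z) : ∃ b : Basis (ZMod r) K V,
    (∀ i, (Z : R K V) (b i) = ch r ω i • b i) ∧ ∀ i, (P : R K V) (b i) = b (i + 1) := by
  have : NeZero r := ⟨h.hr.ne_zero⟩
  have : Nonempty (ZMod r) := ⟨0⟩
  obtain ⟨v, hv0, hv⟩ := h.exists_fix
  let w : ZMod r → V := fun i => ((P : R K V) ^ i.val) v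
  have hw : ∀ i, (Z : R K V) (w i) = ch r ω i • w i := fun i => by
    show (Z : R K V) (((P : R K V) ^ i.val) v) = _
    rw [h.Z_pow, hv]
    rfl
  have hli : LinearIndependent K w := by
    refine Module.End.eigenvectors_linearIndependent' (Z : R K V) (ch r ω) h.ch_inj w fun i => ?_
    exact ⟨Module.End.mem_eigenspace_iff.2 (hw i), inj_pow _ hv0⟩
  have hcard : Fintype.card (ZMod r) = finrank K V := by rw [ZMod.card, h.rank]
  refine ⟨basisOfLinearIndependentOfCardEqFinrank hli hcard, fun i => ?_, fun i => ?_⟩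
  · rw [coe_basisOfLinearIndependentOfCardEqFinrank]
    exact hw i
  · rw [coe_basisOfLinearIndependentOfCardEqFinrank]
    show (P : R K V) (((P : R K V) ^ i.val) v) = ((P : R K V) ^ (i + 1).val) v
    rw [← Module.End.mul_apply, ← pow_succ']
    congr 1
    have h1 : (i + 1).val = (i.val + 1) % r := by
      rw [← ZMod.val_natCast, Nat.cast_add, ZMod.natCast_zmod_val, Nat.cast_one]
    rw [h1, ← pow_eq_pow_mod _ h.Pr']

/-- `det Z = 1` -/
theorem det_Z [Module.Finite K V] (h : Heis r ω P Z) : LinearMap.det (Z : R K V) = 1 := by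
  have : NeZero r := ⟨h.hr.ne_zero⟩
  obtain ⟨b, hb, -⟩ := h.exists_basis
  have h1 : LinearMap.toMatrix b b (Z : R K V) = Matrix.diagonal (ch r ω) := by
    ext i j
    rw [LinearMap.toMatrix_apply, hb, map_smul, Basis.repr_self, Finsupp.smul_apply, Finsupp.single_apply,
      Matrix.diagonal_apply]
    by_cases hij : i = j
    · rw [if_pos hij.symm, if_pos hij, hij, smul_eq_mul, mul_one]
    · rw [if_neg (Ne.symm hij), if_neg hij, smul_zero]
  rw [← LinearMap.det_toMatrix b, h1, Matrix.det_diagonal]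
  show ∏ i : ZMod r, ω ^ i.val = 1
  rw [Finset.prod_pow_eq_pow_sum]
  have h2 : ∑ i : ZMod r, i.val = ∑ i ∈ Finset.range r, i := by
    refine Finset.sum_bij (fun i _ => i.val) ?_ ?_ ?_ ?_
    · intro i _; exact Finset.mem_range.2 (ZMod.val_lt i)
    · intro i _ j _ hij; exact ZMod.val_injective r hij
    · intro k hk; exact ⟨(k : ZMod r), Finset.mem_univ _, ZMod.val_cast_of_lt (Finset.mem_range.1 hk)⟩
    · intro i _; rfl
  have h3 := Finset.sum_range_id_mul_two r
  obtain ⟨m, hm⟩ := h.hr.even_sub_one h.odd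
  have h4 : ∑ i ∈ Finset.range r, i = r * m := by
    rw [hm] at h3
    have : (∑ i ∈ Finset.range r, i) * 2 = (r * m) * 2 := by rw [h3]; ring
    omega
  rw [h2, h4, pow_mul, h.hω, one_pow]

theorem det_P [Module.Finite K V] (h : Heis r ω P Z) : LinearMap.det (P : R K V) = 1 := h.symm.det_Z

/-- an element commuting with `P` and `Z` is a scalar -/
theorem scalar [Module.Finite K V] (h : Heis r ω P Z) {W : R K V} (hP : W * P = P * W) (hZ : W * Z = Z * W) :
    ∃ c : K, W = c • (1 : R K V) := by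
  have : NeZero r := ⟨h.hr.ne_zero⟩
  obtain ⟨b, hbZ, hbP⟩ := h.exists_basis
  have h1 : ∀ i, ∃ c : K, W (b i) = c • b i := by
    intro i
    refine ⟨b.repr (W (b i)) i, b.repr.injective (Finsupp.ext fun j => ?_)⟩
    rw [map_smul, Basis.repr_self, Finsupp.smul_apply, Finsupp.single_apply]
    by_cases hij : i = j
    · rw [if_pos hij, hij, smul_eq_mul, mul_one]
    · rw [if_neg hij, smul_zero]
      have h2 : (Z : R K V) (W (b i)) = ch r ω i • W (b i) := by
        rw [← Module.End.mul_apply, ← hZ, Module.End.mul_apply, hbZ, map_smul]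
      have h3 : ∀ w : V, b.repr ((Z : R K V) w) j = ch r ω j * b.repr w j := by
        intro w
        have h4 : w = ∑ k, b.repr w k • b k := (b.sum_repr w).symm
        conv_lhs => rw [h4]
        rw [map_sum, map_sum, Finsupp.finsetSum_apply, Finset.sum_eq_single j]
        · rw [map_smul, hbZ, map_smul, map_smul, Basis.repr_self, Finsupp.smul_apply, Finsupp.smul_apply,
            Finsupp.single_eq_same, smul_eq_mul, smul_eq_mul, mul_one, mul_comm]
        · intro k _ hk
          rw [map_smul, hbZ, map_smul, map_smul, Basis.repr_self, Finsupp.smul_apply, Finsupp.smul_apply,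
            Finsupp.single_eq_of_ne (Ne.symm hk), smul_zero, smul_zero]
        · intro hj; exact absurd (Finset.mem_univ j) hj
      have h5 := h3 (W (b i))
      rw [h2, map_smul, Finsupp.smul_apply, smul_eq_mul] at h5
      have h6 : (ch r ω i - ch r ω j) * b.repr (W (b i)) j = 0 := by rw [sub_mul, h5, sub_self]
      rcases mul_eq_zero.1 h6 with h7 | h7
      · exact absurd (h.ch_inj (sub_eq_zero.1 h7)) hij
      · exact h7
  obtain ⟨c, hc⟩ := h1 0
  refine ⟨c, b.ext fun i => ?_⟩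
  have h2 : ∀ n : ℕ, W (b (n : ZMod r)) = c • b (n : ZMod r) := by
    intro n
    induction n with
    | zero => rw [Nat.cast_zero]; exact hc
    | succ n ih =>
      rw [Nat.cast_succ, ← hbP, ← Module.End.mul_apply, hP, Module.End.mul_apply, ih, map_smul]
  have h3 := h2 i.val
  rw [ZMod.natCast_zmod_val] at h3
  rw [h3]
  rfl

end Heis

end Cfsg.Agent.H710.FC
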