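import Cfsg.Agent.H710.FC.Core

/-!
# S5764, extraspecial normalizers in odd prime degree (helper710): automorphisms centralizing `A`
-/

set_option autoImplicit false

universe u v

namespace Cfsg.Agent.H710.FC

open Module Cfsg.Agent.H198.FC Cfsg.Agent.H886.FC

variable {K : Type u} [Field K] {V : Type v} [AddCommGroup V] [Module K V]

/-- the unit `1 + N`, `N² = 0` -/
def uN (N : R K V) (h : N * N = 0) : (R K V)ˣ where
  val := 1 + N
  inv := 1 - N
  val_inv := by rw [mul_sub, mul_one, add_mul, one_mul, h]; abel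
  inv_val := by rw [mul_add, mul_one, sub_mul, one_mul, h]; abel

theorem uN_val (N : R K V) (h : N * N = 0) : (uN N h : R K V) = 1 + N := rfl

theorem uN_inv (N : R K V) (h : N * N = 0) : (((uN N h)⁻¹ : (R K V)ˣ) : R K V) = 1 - N := rfl

theorem det_uN [Module.Finite K V] (N : R K V) (h : N * N = 0) : LinearMap.det (uN N h : R K V) = 1 := by
  apply det_one_of_nilp
  refine ⟨2, ?_⟩
  rw [uN_val, add_sub_cancel_left, pow_two, h]

/-- the field of the scalars fixed by `f` -/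
def fixF {f : Equiv.Perm (R K V)} (hf : f ∈ RA K V) : Subfield K where
  carrier := {c | f (c • (1 : R K V)) = c • (1 : R K V)}
  mul_mem' := by
    intro x y hx hy
    show f ((x * y) • (1 : R K V)) = (x * y) • (1 : R K V)
    have h1 : (x • (1 : R K V)) * (y • (1 : R K V)) = (x * y) • (1 : R K V) := by
      rw [smul_mul_assoc, one_mul, smul_smul]
    have h2 : (x • (1 : R K V)) * (y • (1 : R K V)) = (y • (1 : R K V)) * (x • (1 : R K V)) := by
      rw [smul_mul_assoc, one_mul, smul_mul_assoc, one_mul, smul_smul, smul_smul, mul_comm]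
    rw [← h1, ra_mul_of_comm hf h2, hx, hy]
  one_mem' := by
    show f ((1 : K) • (1 : R K V)) = (1 : K) • (1 : R K V)
    rw [one_smul, ra_one hf]
  add_mem' := by
    intro x y hx hy
    show f ((x + y) • (1 : R K V)) = (x + y) • (1 : R K V)
    rw [add_smul, ra_add hf, hx, hy]
  zero_mem' := by
    show f ((0 : K) • (1 : R K V)) = (0 : K) • (1 : R K V)
    rw [zero_smul, ra_zero hf]
  neg_mem' := by
    intro x hx
    show f ((-x) • (1 : R K V)) = (-x) • (1 : R K V)
    rw [neg_smul, ra_neg hf, hx]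
  inv_mem' := by
    intro x hx
    show f (x⁻¹ • (1 : R K V)) = x⁻¹ • (1 : R K V)
    have hx' : f (x • (1 : R K V)) = x • (1 : R K V) := hx
    by_cases h0 : x = 0
    · rw [h0, inv_zero, zero_smul, ra_zero hf]
    · have h1 : (x • (1 : R K V)) * (x⁻¹ • (1 : R K V)) = 1 := by
        rw [smul_mul_assoc, one_mul, smul_smul, mul_inv_cancel₀ h0, one_smul]
      have h2 : (x • (1 : R K V)) * (x⁻¹ • (1 : R K V)) = (x⁻¹ • (1 : R K V)) * (x • (1 : R K V)) := by
        rw [smul_mul_assoc, one_mul, smul_mul_assoc, one_mul, smul_smul, smul_smul, mul_comm]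
      have h3 := ra_mul_of_comm hf h2
      rw [h1, ra_one hf, hx', smul_mul_assoc, one_mul] at h3
      calc f (x⁻¹ • (1 : R K V)) = x⁻¹ • (x • f (x⁻¹ • (1 : R K V))) := by
            rw [smul_smul, inv_mul_cancel₀ h0, one_smul]
        _ = x⁻¹ • (1 : R K V) := by rw [← h3]

theorem mem_fixF {f : Equiv.Perm (R K V)} (hf : f ∈ RA K V) {c : K} :
    c ∈ fixF hf ↔ f (c • (1 : R K V)) = c • (1 : R K V) := Iff.rfl

theorem fixF_smul {f : Equiv.Perm (R K V)} (hf : f ∈ RA K V) {c : K} (hc : c ∈ fixF hf) (X : R K V) :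
    f (c • X) = c • f X := by
  have h : (c • (1 : R K V)) * X = X * (c • (1 : R K V)) := by
    rw [smul_mul_assoc, one_mul, mul_smul_comm, mul_one]
  have h1 := ra_mul_of_comm hf h
  rwa [smul_mul_assoc, one_mul, hc, smul_mul_assoc, one_mul] at h1

variable {r : ℕ} {ω : K} {P Z : (R K V)ˣ} {b : Basis (ZMod r) K V}

/-- the condition on `δ` -/
def Gen (r : ℕ) (ω δ : K) : Prop := δ ≠ 0 ∧ ∀ K₀ : Subfield K, ω ∈ K₀ → δ ^ r ∈ K₀ → K₀ = ⊤

theorem Heis.EE (h : Heis r ω P Z) (δ : K) : (δ • Heis.E b) * (δ • Heis.E b) = 0 := by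
  rw [smul_mul_assoc, mul_smul_comm, h.E_sq, smul_zero, smul_zero]

/-- **(1)**: if `f` centralizes `A` and `x f x⁻¹` normalizes it then `f` is trivial -/
theorem Heis.star [Module.Finite K V] (h : Heis r ω P Z) (hZ : ∀ i, (Z : R K V) (b i) = Heis.ch r ω i • b i)
    (hP : ∀ i, (P : R K V) (b i) = b (i + 1)) {δ : K} (hδ : Gen r ω δ) {f : Equiv.Perm (R K V)} (hf : f ∈ RA K V)
    (fP : f * cj K V P * f⁻¹ = cj K V P) (fZ : f * cj K V Z * f⁻¹ = cj K V Z)
    {g : Equiv.Perm (R K V)} (hg : g = cj K V (uN _ (h.EE (b := b) δ)) * f * (cj K V (uN _ (h.EE (b := b) δ)))⁻¹ * f⁻¹)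
    {i j : ℕ} (gZ : g * cj K V Z * g⁻¹ = cj K V (P ^ i * Z ^ j)) :
    f P = P ∧ f Z = Z ∧ (∀ c : K, ∀ X : R K V, f (c • X) = c • f X) ∧ ∀ X Y : R K V, f (X * Y) = f X * f Y := by
  obtain ⟨hδ0, hδK⟩ := hδ
  have hnt : Nontrivial V := by
    apply Module.nontrivial_of_finrank_pos (R := K)
    rw [h.rank]; exact h.hr.pos
  set x : (R K V)ˣ := uN _ (h.EE (b := b) δ) with hx
  set E : R K V := Heis.E b with hE
  have hinj : ∀ X Y : R K V, f X = f Y → X = Y := fun X Y hXY => f.injective hXY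
  obtain ⟨ω', hω'⟩ := ra_smul hf ω
  obtain ⟨δ', hδ'⟩ := ra_smul hf δ
  have hT0 : f E ≠ 0 := by
    intro h0
    exact Heis.E_ne_zero (b := b) (hinj _ _ (h0.trans (ra_zero hf).symm))
  have hω'0 : ω' ≠ 0 := by
    intro h0
    have h1 := hω' 1
    rw [h0, zero_smul, ← ra_zero hf] at h1
    exact (smul_ne_zero h.ω_ne one_ne_zero) (hinj _ _ h1)
  have hω'1 : ω' ≠ 1 := by
    intro h0
    have h1 := hinj _ _ ((hω' 1).trans (by rw [h0, one_smul] : ω' • f 1 = f 1))
    have h2 : (ω - 1) • (1 : R K V) = 0 := by rw [sub_smul, h1, one_smul, sub_self]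
    exact h.prim.ne_one h.hr.one_lt (sub_eq_zero.1 ((smul_eq_zero.1 h2).resolve_right one_ne_zero))
  have hδ'0 : δ' ≠ 0 := by
    intro h0
    have h1 := hδ' 1
    rw [h0, zero_smul, ← ra_zero hf] at h1
    exact (smul_ne_zero hδ0 one_ne_zero) (hinj _ _ h1)
  have EZ : E * Z = ω • E := h.E_Z hZ
  have ZE : (Z : R K V) * E = E := h.Z_E hZ
  -- from the equation `g cj(Z) g⁻¹ = cj(P^i Z^j)` to the core computation
  have main : ∀ (u : (R K V)ˣ) (T : R K V), g = cj K V u → (u : R K V) = (1 + δ • E) * (1 + T) → T ≠ 0 →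
      ∀ a c : K, T * Z = a • T → (Z : R K V) * T = c • T → a ≠ c → T = -(δ • E) := by
    intro u T hgu hu hT a c ha hc hac
    rw [hgu, ← map_mul, ← map_inv, ← map_mul] at gZ
    obtain ⟨ν, hν⟩ := cj_eq_cj gZ
    refine h.core (i := i) (j := j) (ν := ν) hZ hP hδ0 hT ha hc hac hu ?_
    have h2 : (((P ^ i * Z ^ j : (R K V)ˣ)) : R K V) = (P : R K V) ^ i * (Z : R K V) ^ j := by
      rw [Units.val_mul, Units.val_pow_eq_pow_val, Units.val_pow_eq_pow_val]
    rw [← h2, ← hν, Units.val_mul, Units.val_mul, mul_assoc, Units.inv_mul, mul_one]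
  rcases hf.2 with hm | hm
  · -- automorphisms
    rw [conj_cj_rp hf hm] at fP fZ
    obtain ⟨μ, hμ⟩ := cj_eq_cj fP
    obtain ⟨l, hl⟩ := cj_eq_cj fZ
    rw [fU_val] at hμ hl
    have hl0 : l ≠ 0 := by
      intro h0
      rw [h0, zero_smul, ← ra_zero hf] at hl
      exact Z.ne_zero (hinj _ _ hl)
    have TZ : f E * Z = (l⁻¹ * ω') • f E := by
      have h1 := hm E Z
      rw [EZ, hω', hl, mul_smul_comm] at h1
      rw [mul_smul, h1, smul_smul, inv_mul_cancel₀ hl0, one_smul]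
    have ZT : (Z : R K V) * f E = l⁻¹ • f E := by
      have h1 := hm Z E
      rw [ZE, hl, smul_mul_assoc] at h1
      conv_rhs => rw [h1]
      rw [smul_smul, inv_mul_cancel₀ hl0, one_smul]
    have hu : g = cj K V (x * (fU f hf x)⁻¹) := by
      rw [hg, map_mul, map_inv, ← conj_cj_rp hf hm]
      group
    have hT := main (x * (fU f hf x)⁻¹) (-(δ' • f E)) hu (by
        have h1 : (((fU f hf x)⁻¹ : (R K V)ˣ) : R K V) = f ((x⁻¹ : (R K V)ˣ) : R K V) := rfl
        rw [Units.val_mul, h1, hx, uN_val, uN_inv, ra_sub hf, ra_one hf, hδ', sub_eq_add_neg])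
      (neg_ne_zero.2 (smul_ne_zero hδ'0 hT0)) (l⁻¹ * ω') l⁻¹
      (by rw [neg_mul, smul_mul_assoc, TZ, smul_neg, smul_comm])
      (by rw [mul_neg, mul_smul_comm, ZT, smul_neg, smul_comm])
      (fun h0 => hω'1 (mul_left_cancel₀ (inv_ne_zero hl0) (by rw [h0, mul_one])))
    rw [neg_inj] at hT
    have hκ : f E = (δ'⁻¹ * δ) • E := by
      rw [mul_smul, ← hT, smul_smul, inv_mul_cancel₀ hδ'0, one_smul]
    -- `l = 1`, `ω' = ω`
    have hl1 : l = 1 := by
      have h1 : (Z : R K V) * f E = f E := by rw [hκ, mul_smul_comm, ZE]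
      rw [ZT] at h1
      have h2 : (l⁻¹ - 1) • f E = 0 := by rw [sub_smul, h1, one_smul, sub_self]
      have h3 := sub_eq_zero.1 ((smul_eq_zero.1 h2).resolve_right hT0)
      exact inv_eq_one.1 h3
    have hω1 : ω' = ω := by
      have h1 : f E * Z = ω • f E := by rw [hκ, smul_mul_assoc, EZ, smul_comm]
      rw [TZ, hl1, inv_one, one_mul] at h1
      have h2 : (ω' - ω) • f E = 0 := by rw [sub_smul, h1, sub_self]
      exact sub_eq_zero.1 ((smul_eq_zero.1 h2).resolve_right hT0)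
    rw [hl1, one_smul] at hl
    -- `δ' = μ δ`
    have hμ1 : δ' = μ * δ := by
      have h1 : f (E * P * (E * P)) = f (E * P) := by rw [Heis.EP_sq hP]
      have h2 : f (E * P) = (δ'⁻¹ * δ * μ) • (E * P) := by
        rw [hm, hκ, hμ, smul_mul_assoc, mul_smul_comm, smul_smul]
      rw [hm, h2, smul_mul_assoc, mul_smul_comm, Heis.EP_sq hP, smul_smul] at h1
      have h3 : ((δ'⁻¹ * δ * μ) * (δ'⁻¹ * δ * μ) - δ'⁻¹ * δ * μ) • (E * P) = 0 := by rw [sub_smul, h1, sub_self]
      have h4 := (smul_eq_zero.1 h3).resolve_right (Heis.EP_ne hP)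
      have hμ0 : μ ≠ 0 := by
        intro h0
        rw [h0, zero_smul, ← ra_zero hf] at hμ
        exact P.ne_zero (hinj _ _ hμ)
      have h5 : δ'⁻¹ * δ * μ ≠ 0 := mul_ne_zero (mul_ne_zero (inv_ne_zero hδ'0) hδ0) hμ0
      have h6 : δ'⁻¹ * δ * μ = 1 := by
        apply mul_left_cancel₀ h5
        linear_combination h4
      calc δ' = δ' * (δ'⁻¹ * δ * μ) := by rw [h6, mul_one]
        _ = (δ' * δ'⁻¹) * (μ * δ) := by ring
        _ = μ * δ := by rw [mul_inv_cancel₀ hδ'0, one_mul]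
    have hμr : μ ^ r = 1 := by
      have h1 := ra_pow hf (P : R K V) r
      rw [h.Pr', ra_one hf, hμ, smul_pow, h.Pr'] at h1
      have h2 : (μ ^ r - 1) • (1 : R K V) = 0 := by rw [sub_smul, ← h1, one_smul, sub_self]
      exact sub_eq_zero.1 ((smul_eq_zero.1 h2).resolve_right one_ne_zero)
    -- the fixed field
    have hK : fixF hf = ⊤ := by
      apply hδK
      · rw [mem_fixF, hω' 1, ra_one hf, hω1]
      · rw [mem_fixF]
        have h1 : (δ ^ r) • (1 : R K V) = (δ • (1 : R K V)) ^ r := by rw [smul_pow, one_pow]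
        rw [h1, ra_pow hf, hδ' 1, ra_one hf, smul_pow, one_pow, hμ1, mul_pow, hμr, one_mul, smul_pow, one_pow]
    have hlin : ∀ c : K, ∀ X : R K V, f (c • X) = c • f X := by
      intro c X
      apply fixF_smul hf
      rw [hK]
      exact Subfield.mem_top c
    have hμ2 : μ = 1 := by
      have h1 := hδ' 1
      rw [hlin, ra_one hf] at h1
      have h2 : (δ - δ') • (1 : R K V) = 0 := by rw [sub_smul, h1, sub_self]
      have h3 := sub_eq_zero.1 ((smul_eq_zero.1 h2).resolve_right one_ne_zero)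
      rw [hμ1] at h3
      exact (mul_right_cancel₀ hδ0 (by rw [one_mul]; exact h3 : (1 : K) * δ = μ * δ)).symm
    rw [hμ2, one_smul] at hμ
    exact ⟨hμ, hl, hlin, hm⟩
  · -- anti-automorphisms
    exfalso
    rw [conj_cj_anti hf hm, ← map_inv] at fP fZ
    have fP' : cj K V (fU f hf P) = cj K V P⁻¹ := by
      rw [map_inv, ← fP, map_inv, inv_inv]
    have fZ' : cj K V (fU f hf Z) = cj K V Z⁻¹ := by
      rw [map_inv, ← fZ, map_inv, inv_inv]
    obtain ⟨μ, hμ⟩ := cj_eq_cj fP'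
    obtain ⟨l, hl⟩ := cj_eq_cj fZ'
    rw [fU_val] at hμ hl
    have hl0 : l ≠ 0 := by
      intro h0
      rw [h0, zero_smul, ← ra_zero hf] at hl
      exact Z.ne_zero (hinj _ _ hl)
    have hμ0 : μ ≠ 0 := by
      intro h0
      rw [h0, zero_smul, ← ra_zero hf] at hμ
      exact P.ne_zero (hinj _ _ hμ)
    have TZ : f E * Z = l • f E := by
      have h1 := hm Z E
      rw [ZE, hl, mul_smul_comm] at h1
      calc f E * Z = (l • (f E * ((Z⁻¹ : (R K V)ˣ) : R K V))) * Z := by rw [← h1]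
        _ = l • f E := by rw [smul_mul_assoc, mul_assoc, Units.inv_mul, mul_one]
    have ZT : (Z : R K V) * f E = (l * ω'⁻¹) • f E := by
      have h1 := hm E Z
      rw [EZ, hω', hl, smul_mul_assoc] at h1
      have h2 : f E = ω'⁻¹ • l • (((Z⁻¹ : (R K V)ˣ) : R K V) * f E) := by
        rw [← h1, smul_smul, inv_mul_cancel₀ hω'0, one_smul]
      conv_lhs => rw [h2]
      rw [mul_smul_comm, mul_smul_comm, ← mul_assoc, Units.mul_inv, one_mul, smul_smul, mul_comm]
    have hu : g = cj K V (x * fU f hf x) := by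
      have h1 : f * (cj K V x)⁻¹ * f⁻¹ = cj K V (fU f hf x) := by
        have h2 := conj_cj_anti hf hm x
        calc f * (cj K V x)⁻¹ * f⁻¹ = (f * cj K V x * f⁻¹)⁻¹ := by group
          _ = cj K V (fU f hf x) := by rw [h2, inv_inv]
      rw [hg, map_mul, ← h1]
      group
    have hT := main (x * fU f hf x) (δ' • f E) hu (by
        rw [Units.val_mul, fU_val, hx, uN_val, ra_add hf, ra_one hf, hδ'])
      (smul_ne_zero hδ'0 hT0) l (l * ω'⁻¹)
      (by rw [smul_mul_assoc, TZ, smul_comm])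
      (by rw [mul_smul_comm, ZT, smul_comm])
      (fun h0 => hω'1 (by
        have h1 : l * ω' = l * 1 := by
          rw [mul_one]
          calc l * ω' = (l * ω'⁻¹) * ω' := by rw [← h0]
            _ = l := by rw [mul_assoc, inv_mul_cancel₀ hω'0, mul_one]
        exact mul_left_cancel₀ hl0 h1))
    have hκ : f E = (-(δ'⁻¹ * δ)) • E := by
      rw [neg_smul, mul_smul, ← smul_neg, ← hT, smul_smul, inv_mul_cancel₀ hδ'0, one_smul]
    have hl1 : l * ω'⁻¹ = 1 := by
      have h1 : (Z : R K V) * f E = f E := by rw [hκ, mul_smul_comm, ZE]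
      rw [ZT] at h1
      have h2 : (l * ω'⁻¹ - 1) • f E = 0 := by rw [sub_smul, h1, one_smul, sub_self]
      exact sub_eq_zero.1 ((smul_eq_zero.1 h2).resolve_right hT0)
    have hl2 : l = ω := by
      have h1 : f E * Z = ω • f E := by rw [hκ, smul_mul_assoc, EZ, smul_comm]
      rw [TZ] at h1
      have h2 : (l - ω) • f E = 0 := by rw [sub_smul, h1, sub_self]
      exact sub_eq_zero.1 ((smul_eq_zero.1 h2).resolve_right hT0)
    have hω1 : ω' = ω := by
      rw [← hl2]
      calc ω' = (l * ω'⁻¹) * ω' := by rw [hl1, one_mul]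
        _ = l := by rw [mul_assoc, inv_mul_cancel₀ hω'0, mul_one]
    -- from `Z P = ω P Z`
    have h1 : f ((Z : R K V) * P) = ω' • f ((P : R K V) * Z) := by rw [h.comm, hω']
    rw [hm, hm, hμ, hl, smul_mul_assoc, mul_smul_comm, smul_mul_assoc, mul_smul_comm] at h1
    have h2 : ((P⁻¹ : (R K V)ˣ) : R K V) * ((Z⁻¹ : (R K V)ˣ) : R K V) =
        ω' • (((Z⁻¹ : (R K V)ˣ) : R K V) * ((P⁻¹ : (R K V)ˣ) : R K V)) := by
      have h3 : (μ * l) • (((P⁻¹ : (R K V)ˣ) : R K V) * ((Z⁻¹ : (R K V)ˣ) : R K V)) =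
          (μ * l) • (ω' • (((Z⁻¹ : (R K V)ˣ) : R K V) * ((P⁻¹ : (R K V)ˣ) : R K V))) := by
        rw [mul_smul, h1, smul_smul, smul_smul, smul_smul]
        congr 1
        ring
      exact smul_right_injective (R K V) (mul_ne_zero hμ0 hl0) h3
    have h4 : (1 : R K V) = (ω * ω') • (1 : R K V) := by
      calc (1 : R K V) = (Z : R K V) * P * (((P⁻¹ : (R K V)ˣ) : R K V) * ((Z⁻¹ : (R K V)ˣ) : R K V)) := by
            rw [mul_assoc, ← mul_assoc (P : R K V), Units.mul_inv, one_mul, Units.mul_inv]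
        _ = (ω * ω') • ((P : R K V) * Z * (((Z⁻¹ : (R K V)ˣ) : R K V) * ((P⁻¹ : (R K V)ˣ) : R K V))) := by
            rw [h2, h.comm, smul_mul_assoc, mul_smul_comm, smul_smul]
        _ = (ω * ω') • (1 : R K V) := by
            rw [mul_assoc, ← mul_assoc (Z : R K V), Units.mul_inv, one_mul, Units.mul_inv]
    have h5 : (ω ^ 2 - 1) • (1 : R K V) = 0 := by
      rw [sub_smul, one_smul, pow_two]
      conv_lhs => rw [← hω1]
      rw [hω1, ← hω1]
      rw [hω1] at h4 ⊢
      rw [← h4, sub_self]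
    have h6 := sub_eq_zero.1 ((smul_eq_zero.1 h5).resolve_right one_ne_zero)
    have h7 := h.prim.dvd_of_pow_eq_one 2 h6
    exact h.odd ((Nat.prime_dvd_prime_iff_eq h.hr Nat.prime_two).1 h7)

end Cfsg.Agent.H710.FC
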